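import Cfsg.Agent.H422.RatB.Two
import Cfsg.Agent.H378.Spr.AutN
import Cfsg.Agent.H554.RG

/-!
# S4829: the non-conjugacy lemma of helper422 for automorphisms (helper949)

* `map_X_of_std` : type preserving automorphisms map the root groups to conjugates;
* `not_conj_aut` : no automorphism fixing `x` maps `X θ` to `X β`.
-/

set_option autoImplicit false
set_option linter.unusedSectionVars false

namespace Cfsg.Agent.H949.CY

open CoxeterSystem Cfsg.Agent.ChevalleyStructure.CoxeterGeom Cfsg.Agent.Tits.Roots Cfsg.Agent.Tits.Core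
  Cfsg.Agent.Tits.RootComb Cfsg.Agent.Tits.Exchange Cfsg.Agent.Nodes.Comb Cfsg.Agent.Nodes.Reps
  Cfsg.Agent.Nodes.BNOf Cfsg.Agent.Nodes.StabComb Cfsg.Agent.Nodes.Bruhat Cfsg.Agent.Nodes.OppDec
  Cfsg.Agent.Nodes.LeviDec Cfsg.Agent.Nodes.NormX Cfsg.Agent.Nodes.Coroot Cfsg.Agent.KFacts.RgdPar
  Cfsg.Agent.KFacts.RgdSL Cfsg.Agent.KFacts.RgdTI
open Cfsg.Agent.H422.RatB Cfsg.Agent.H554.RG

variable {I W Y : Type*} [Fintype I] [DecidableEq I] [Group W] [Group Y] {M : CoxeterMatrix I}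
  {cs : CoxeterSystem M W} {A : I → I → ℤ} {h : IsCartan M A} {r : ℕ} {T : Subgroup Y} {n : I → Y}
  {X : (I → ℤ) → Subgroup Y}

/-- the image of a conjugate -/
theorem map_cj (c : MulAut Y) (g : Y) (K : Subgroup Y) : (cj g K).map c.toMonoidHom = cj (c g) (K.map c.toMonoidHom) :=
  (Cfsg.Agent.Nodes.RGDLib.cj_map c.toMonoidHom g K).symm

theorem map_inv_map (c : MulAut Y) (K : Subgroup Y) : (K.map c.toMonoidHom).map c⁻¹.toMonoidHom = K := by
  rw [Subgroup.map_map]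
  have e : (c⁻¹ : MulAut Y).toMonoidHom.comp c.toMonoidHom = MonoidHom.id Y := by
    ext y
    exact MulAut.inv_apply_self Y c y
  rw [e, Subgroup.map_id]

theorem map_map_inv (c : MulAut Y) (K : Subgroup Y) : (K.map c⁻¹.toMonoidHom).map c.toMonoidHom = K := by
  have h1 := map_inv_map c⁻¹ K
  rwa [inv_inv] at h1

variable (R : RGD cs h r T n X)

include R

/-- type preserving automorphisms map the root groups to conjugates -/
theorem map_X_of_std [Finite W] {c : MulAut Y} {s : Y} (D : Std cs h T X (MulAut.conj s * c) 1) {θ : I → ℤ}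
    (hθ : IsRoot cs h θ) : (X θ).map c.toMonoidHom = cj s⁻¹ (X θ) := by
  have h1 := H378.AutN.diag_X R D.diag hθ
  have e : (MulAut.conj s * c : MulAut Y).toMonoidHom = (MulAut.conj s).toMonoidHom.comp c.toMonoidHom := rfl
  rw [e, ← Subgroup.map_map] at h1
  have h2 : cj s ((X θ).map c.toMonoidHom) = X θ := h1
  conv_rhs => rw [← h2]
  rw [cj_inv_cj]

variable [Finite W] {θ : I → ℤ} (L : LR R θ) (hdom : ∀ i, 0 ≤ cpr cs h (sr i) θ)

include L hdom

/-- **Lemma B for automorphisms.** -/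
theorem not_conj_aut [Finite Y] [Fact r.Prime] (hG : GG cs h T X = ⊤) (hs : SL cs h) {p : ℕ} {J0 : Set I}
    (hK : ∀ K : Set I, K ⊆ J0 → K ≠ J0 → ¬ p ∣ Nat.card (PJ cs h T X K))
    (hJ0 : ∀ i ∈ J0, cpr cs h (sr i) θ = 0)
    (h3 : ∀ w : W, (∀ i ∈ J0, cpr cs h (sr i) (rep cs h w θ) = 0) →
      rep cs h w θ = θ ∨ rep cs h w θ = -θ ∨ cpr cs h (rep cs h w θ) θ = 0)
    {x : Y} (hx : x ∈ RGD.Sup X (RootsJ cs h J0)) (hxp : orderOf x = p) {β r0 : I → ℤ} {u u' : W}
    (hβ : rep cs h u θ = β) (hr0 : rep cs h u' θ = r0) (ho : ∀ i ∈ J0, cpr cs h (sr i) r0 = 0)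
    (hc0 : cpr cs h r0 β = -1) {c : MulAut Y} (hc : c x = x) {g : Y}
    (hcg : (X θ).map c⁻¹.toMonoidHom = cj g (X θ)) : (X θ).map c.toMonoidHom ≠ X β := by
  intro hcβ
  have Lβ : LR R β := hβ ▸ L.act u
  have L0 : LR R r0 := hr0 ▸ L.act u'
  have hxP : x ∈ PJ cs h T X J0 := by
    refine LJ_le_PJ (RGD.Sup_le (fun z hz => X_le_LJ hz) hx)
  have hc' : c⁻¹ x = x := by
    conv_lhs => rw [← hc]
    exact MulAut.inv_apply_self Y c x
  -- `y = c⁻¹ (X r0)`
  obtain ⟨k, hk⟩ := exists_rp cs R.nsys u'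
  have hy : (X r0).map c⁻¹.toMonoidHom = cj (c⁻¹ k * g) (X θ) := by
    rw [← hr0, ← R.conj_rp hk L.root, map_cj, hcg, ← cj_mul]
  have hxy : cj x (cj (c⁻¹ k * g) (X θ)) = cj (c⁻¹ k * g) (X θ) := by
    rw [← hy]
    have h1 : cj x ((X r0).map c⁻¹.toMonoidHom) = (cj x (X r0)).map c⁻¹.toMonoidHom := by
      rw [map_cj, hc']
    rw [h1, cj_eq_of_comm R (mem_norm_of_orth R L0 ho hx)]
  obtain ⟨h0, hh0, w, hw, he⟩ := fix_orbit R L hdom hG hs hK hxP hxp hxy
  rw [← hy] at he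
  have hJsub : J0 ⊆ {i | cpr cs h (sr i) θ = 0} := fun i hi => hJ0 i hi
  have hh0n : cj h0 (X θ) = X θ := by
    rw [← mem_normalizer_iff_cj]
    refine PJ_le_norm R L hdom ?_
    have h1 : PJ cs h T X J0 ≤ PJ cs h T X {i | cpr cs h (sr i) θ = 0} := by
      refine sup_le ((LJ_mono hJsub).trans LJ_le_PJ) ((VJ_le_B J0).trans B_le_PJ)
    exact h1 hh0
  -- `d = c h0` maps `X θ` to `X β` and `X (w θ)` to `X r0`
  set d : MulAut Y := c * MulAut.conj h0 with hd
  have hdm : ∀ K : Subgroup Y, K.map d.toMonoidHom = (cj h0 K).map c.toMonoidHom := by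
    intro K
    have e : d.toMonoidHom = c.toMonoidHom.comp (MulAut.conj h0).toMonoidHom := rfl
    rw [e, ← Subgroup.map_map]
    rfl
  have hd1 : (X θ).map d.toMonoidHom = X β := by rw [hdm, hh0n, hcβ]
  have hd2 : (X (rep cs h w θ)).map d.toMonoidHom = X r0 := by
    rw [hdm, ← he, map_map_inv]
  have hne : r0 ≠ β := by
    rintro rfl
    rw [cpr_self cs h Lβ.root] at hc0
    omega
  have hmem : ∀ {K K' : Subgroup Y}, K.map d.toMonoidHom = K' → ∀ z ∈ K', d⁻¹ z ∈ K := by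
    rintro K K' rfl z ⟨y, hy, rfl⟩
    have : d⁻¹ (d.toMonoidHom y) = y := MulAut.inv_apply_self Y d y
    rw [this]
    exact hy
  rcases h3 w hw with h4 | h4 | h4
  · rw [h4, hd1] at hd2
    exact hne (X_injective R Lβ.root L0.root hd2).symm
  · rw [h4] at hd2
    apply not_isPGroup R L
    have h5 : (X θ ⊔ X (-θ)).map d.toMonoidHom = X β ⊔ X r0 := by
      rw [← hd1, ← hd2]
      exact Subgroup.map_sup _ _ _
    have h6 : IsPGroup r ↥(X β ⊔ X r0) := by
      refine isPGroup_sup R hs Lβ.root L0.root ?_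
      rintro rfl
      rw [cpr_neg_right cs h r0 L0.root, cpr_self cs h L0.root] at hc0
      omega
    have h7 : X θ ⊔ X (-θ) = (X β ⊔ X r0).map d⁻¹.toMonoidHom := by rw [← h5, map_inv_map]
    rw [h7]
    exact h6.map _
  · -- commuting
    have Lw := L.act w
    obtain ⟨v, hv, hv1⟩ := (Subgroup.bot_or_exists_ne_one (X β)).resolve_left (X_ne_bot R Lβ.root)
    have h5 : X r0 ≤ PS T X (Ge cs h β) := by
      intro z hz
      refine Lβ.le_PS_of_comm (by rw [hG]; exact Subgroup.mem_top z) hv hv1 ?_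
      -- pull back
      have hz' : d⁻¹ z ∈ X (rep cs h w θ) := hmem hd2 z hz
      have hv' : d⁻¹ v ∈ X θ := hmem hd1 v hv
      have h6 := L.comm _ Lw.root h4.ge _ hz' _ hv'
      apply (d⁻¹).injective
      rw [map_mul, map_mul, h6]
    have h6 := (X_le_half_iff R (ell cs h Lβ.root) L0.root).1 h5
    have h7 : 0 ≤ cpr cs h r0 β := h6
    omega

end Cfsg.Agent.H949.CY
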